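/-
Vanishing of higher direct images along a composite, in degrees where those of the first morphism vanish.
-/
import Groth.Agent.EtBcKilledLib.Comp

set_option autoImplicit false
set_option linter.all false
set_option backward.isDefEq.respectTransparency false
set_option backward.isDefEq.respectTransparency.types false
set_option synthInstance.maxHeartbeats 400000
set_option maxHeartbeats 1000000

universe u

open CategoryTheory CategoryTheory.Limits AlgebraicGeometry Opposite

noncomputable section

namespace EtULABCLib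

attribute [local instance] EtSliceLib.pullExact

variable {X Y : Scheme.{u}} (f : X ⟶ Y)

theorem isIso_δ_of_injective {U : ShortComplex (EtCoh.Ab X)} (hU : U.ShortExact) [Injective U.X₂] (q : ℕ) :
    IsIso ((EtCechInjLib.derDelta (EtCoh.push f)).δ hU (q + 1)) :=
  (EtCechInjLib.derDelta (EtCoh.push f)).isIso_δ hU (q + 1)
    (Functor.isZero_rightDerived_obj_injective_succ (EtCoh.push f) q U.X₂)
    (Functor.isZero_rightDerived_obj_injective_succ (EtCoh.push f) (q + 1) U.X₂)

theorem epi_push_iff {U : ShortComplex (EtCoh.Ab X)} :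
    Epi ((EtCoh.push f).map U.g) ↔ Epi (((EtCoh.push f).rightDerived 0).map U.g) := by
  haveI : IsIso ((EtCoh.push f).toRightDerivedZero.app U.X₂) := inferInstance
  haveI : IsIso ((EtCoh.push f).toRightDerivedZero.app U.X₃) := inferInstance
  exact (MorphismProperty.epimorphisms _).arrow_mk_iso_iff
    (Arrow.isoMk (asIso ((EtCoh.push f).toRightDerivedZero.app U.X₂))
      (asIso ((EtCoh.push f).toRightDerivedZero.app U.X₃))
      ((EtCoh.push f).toRightDerivedZero.naturality U.g).symm)

/-- The first higher direct image vanishes exactly when sections of the quotient lift. -/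
theorem isZero_one_iff {U : ShortComplex (EtCoh.Ab X)} (hU : U.ShortExact)
    (h : IsZero ((EtCoh.Rpush f 1).obj U.X₂)) :
    IsZero ((EtCoh.Rpush f 1).obj U.X₁) ↔ Epi ((EtCoh.push f).map U.g) := by
  let T := EtCechInjLib.derDelta (EtCoh.push f)
  rw [epi_push_iff]
  haveI : Epi (T.δ hU 0) := T.epi_δ hU 0 h
  constructor
  · intro h1
    exact (T.exact₃ hU 0).epi_f (IsZero.eq_of_tgt h1 _ _)
  · intro h1
    haveI : Epi ((T.F 0).map U.g) := h1
    have hz : T.δ hU 0 = 0 := (cancel_epi ((T.F 0).map U.g)).1 ((T.map_comp_δ hU 0).trans comp_zero.symm)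
    show IsZero ((T.F (0 + 1)).obj U.X₁)
    rw [IsZero.iff_id_eq_zero, ← cancel_epi (T.δ hU 0), hz, zero_comp]
    exact zero_comp.symm

theorem shortExact_push_of_isZero {U : ShortComplex (EtCoh.Ab X)} (hU : U.ShortExact)
    (h1 : IsZero ((EtCoh.Rpush f 1).obj U.X₁)) (h2 : IsZero ((EtCoh.Rpush f 1).obj U.X₂)) :
    (U.map (EtCoh.push f)).ShortExact := by
  haveI := hU.mono_f
  haveI : PreservesFiniteLimits (EtCoh.push f) :=
    haveI : PreservesLimitsOfSize.{0, 0} (EtCoh.push f) := (EtCoh.pullPushAdj f).rightAdjoint_preservesLimits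
    PreservesLimitsOfSize.preservesFiniteLimits _
  have hl : ∀ S : ShortComplex (EtCoh.Ab X), S.Exact ∧ Mono S.f →
      (S.map (EtCoh.push f)).Exact ∧ Mono ((EtCoh.push f).map S.f) :=
    (Functor.preservesFiniteLimits_tfae (EtCoh.push f) |>.out 3 1).1 ‹PreservesFiniteLimits (EtCoh.push f)›
  exact
    { exact := (hl U ⟨hU.exact, hU.mono_f⟩).1
      mono_f := inferInstanceAs (Mono ((EtCoh.push f).map U.f))
      epi_g := (isZero_one_iff f hU h2).1 h1 }

variable {Z : Scheme.{u}} (h : Y ⟶ Z) (fh : X ⟶ Z) (w : f ≫ h = fh)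

include w in
/-- Vanishing of a higher direct image along a composite. -/
theorem isZero_comp_iff : ∀ (q : ℕ) (M : EtCoh.Ab X), (∀ s, s ≤ q → IsZero ((EtCoh.Rpush f (s + 1)).obj M)) →
    (IsZero ((EtCoh.Rpush fh (q + 1)).obj M) ↔ IsZero ((EtCoh.Rpush h (q + 1)).obj ((EtCoh.push f).obj M))) := by
  intro q
  induction q with
  | zero =>
    intro M hM
    let U : ShortComplex (EtCoh.Ab X) :=
      ShortComplex.mk (Injective.ι M) (cokernel.π (Injective.ι M)) (cokernel.condition _)
    have hU : U.ShortExact :=
      { exact := ShortComplex.exact_of_g_is_cokernel _ (cokernelIsCokernel _) }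
    haveI : Injective U.X₂ := inferInstanceAs (Injective (Injective.under M))
    haveI : Injective ((EtCoh.push f).obj U.X₂) := (EtCoh.push f).injective_obj _
    have hV := shortExact_push_of_isZero f hU (hM 0 le_rfl)
      (Functor.isZero_rightDerived_obj_injective_succ (EtCoh.push f) 0 U.X₂)
    refine (isZero_one_iff fh hU (Functor.isZero_rightDerived_obj_injective_succ (EtCoh.push fh) 0 U.X₂)).trans ?_
    refine Iff.trans ?_ (isZero_one_iff h hV
      (Functor.isZero_rightDerived_obj_injective_succ (EtCoh.push h) 0 ((EtCoh.push f).obj U.X₂))).symm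
    haveI := EtBcKilledLib.isIso_etPc f h fh w
    exact (MorphismProperty.epimorphisms _).arrow_mk_iso_iff
      (Arrow.isoMk (asIso ((DescSecLib.etPc f h fh w).app U.X₂)) (asIso ((DescSecLib.etPc f h fh w).app U.X₃))
        ((DescSecLib.etPc f h fh w).naturality U.g).symm)
  | succ q ih =>
    intro M hM
    let U : ShortComplex (EtCoh.Ab X) :=
      ShortComplex.mk (Injective.ι M) (cokernel.π (Injective.ι M)) (cokernel.condition _)
    have hU : U.ShortExact :=
      { exact := ShortComplex.exact_of_g_is_cokernel _ (cokernelIsCokernel _) }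
    haveI : Injective U.X₂ := inferInstanceAs (Injective (Injective.under M))
    haveI : Injective ((EtCoh.push f).obj U.X₂) := (EtCoh.push f).injective_obj _
    have hV := shortExact_push_of_isZero f hU (hM 0 (Nat.zero_le _))
      (Functor.isZero_rightDerived_obj_injective_succ (EtCoh.push f) 0 U.X₂)
    haveI : Injective (U.map (EtCoh.push f)).X₂ := ‹Injective ((EtCoh.push f).obj U.X₂)›
    haveI := isIso_δ_of_injective fh hU q
    haveI := isIso_δ_of_injective h hV q
    have h1 : IsZero ((EtCoh.Rpush fh (q + 1 + 1)).obj M) ↔ IsZero ((EtCoh.Rpush fh (q + 1)).obj U.X₃) :=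
      Iso.isZero_iff (asIso ((EtCechInjLib.derDelta (EtCoh.push fh)).δ hU (q + 1))).symm
    have h2 : IsZero ((EtCoh.Rpush h (q + 1 + 1)).obj ((EtCoh.push f).obj M)) ↔
        IsZero ((EtCoh.Rpush h (q + 1)).obj ((EtCoh.push f).obj U.X₃)) :=
      Iso.isZero_iff (asIso ((EtCechInjLib.derDelta (EtCoh.push h)).δ hV (q + 1))).symm
    refine h1.trans ((ih U.X₃ fun s hs => ?_).trans h2.symm)
    haveI := isIso_δ_of_injective f hU s
    exact IsZero.of_iso (hM (s + 1) (by omega)) (asIso ((EtCechInjLib.derDelta (EtCoh.push f)).δ hU (s + 1)))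

end EtULABCLib
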