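/-
Injectivity of base change at a limit.
-/
import Groth.Agent.EtBcLimLib.Main

set_option autoImplicit false
set_option linter.all false
set_option backward.isDefEq.respectTransparency false
set_option backward.isDefEq.respectTransparency.types false
set_option synthInstance.maxHeartbeats 400000
set_option maxHeartbeats 1600000

universe u

open CategoryTheory CategoryTheory.Limits AlgebraicGeometry Opposite
open Groth.Agent Groth.Agent.EtShLib DescSecLib EtContLib EtBcLimLib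

noncomputable section

namespace EtULABCLib

attribute [local instance] EtSliceLib.pullExact

theorem mono_stk_of_injective_sig {X Y : Scheme.{u}} (f : X ⟶ Y) {Ω : Type u} [Field Ω] [IsSepClosed Ω]
    (ξ : Spec (CommRingCat.of Ω) ⟶ X) (η : Spec (CommRingCat.of Ω) ⟶ Y) (w : ξ ≫ f = η) {M : EtCoh.Ab Y}
    {N : EtCoh.Ab X} (u : M ⟶ (EtCoh.push f).obj N) (h : Function.Injective (sig f ξ η w u)) :
    Mono ((stk (A := AddCommGrpCat.{u + 1}) ξ).map (adjL f u)) := by
  subst w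
  haveI : Mono (sig f ξ (ξ ≫ f) rfl u) := (AddCommGrpCat.mono_iff_injective _).2 h
  rw [sig, eqToHom_refl, Category.id_comp] at this
  have e : (stk (A := AddCommGrpCat.{u + 1}) ξ).map (adjL f u) =
      inv ((stalkPull f ξ AddCommGrpCat.{u + 1}).hom.app M) ≫
        (stalkPull f ξ AddCommGrpCat.{u + 1}).hom.app M ≫ (stk ξ).map (adjL f u) := by simp
  rw [e]
  exact mono_comp _ _

theorem injective_sig {X Y : Scheme.{u}} (f : X ⟶ Y) {Ω : Type u} [Field Ω] [IsSepClosed Ω]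
    (ξ : Spec (CommRingCat.of Ω) ⟶ X) (η : Spec (CommRingCat.of Ω) ⟶ Y) (w : ξ ≫ f = η) {M : EtCoh.Ab Y}
    {N : EtCoh.Ab X} (u : M ⟶ (EtCoh.push f).obj N) [Mono (adjL f u)] : Function.Injective (sig f ξ η w u) := by
  haveI : Mono ((stk (A := AddCommGrpCat.{u + 1}) ξ).map (adjL f u)) :=
    (mono_iff_stalks (A := AddCommGrpCat.{u + 1}) _).1 inferInstance Ω ξ
  haveI : Mono (sig f ξ η w u) := by rw [sig]; infer_instance
  exact (AddCommGrpCat.mono_iff_injective _).1 ‹_›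


section Final

variable {I : Type u} [SmallCategory I] [IsCofiltered I] {Xs Ss Ts Ys : I ⥤ Scheme.{u}} (fN : Xs ⟶ Ss) (gN : Ts ⟶ Ss)
  (hN : Ys ⟶ Xs) (eN : Ys ⟶ Ts) (sq : ∀ i, IsPullback (eN.app i) (hN.app i) (gN.app i) (fN.app i))
  [∀ i, QuasiCompact (gN.app i)] [∀ i, QuasiSeparated (gN.app i)]
  [∀ (i j : I) (f : i ⟶ j), IsAffineHom (Xs.map f)] [∀ (i j : I) (f : i ⟶ j), IsAffineHom (Ss.map f)]
  [∀ (i j : I) (f : i ⟶ j), IsAffineHom (Ts.map f)] [∀ (i j : I) (f : i ⟶ j), IsAffineHom (Ys.map f)]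
  {cX : Cone Xs} (hcX : IsLimit cX) {cS : Cone Ss} (hcS : IsLimit cS) {cT : Cone Ts} (hcT : IsLimit cT)
  {cY : Cone Ys} (hcY : IsLimit cY)
  (f : cX.pt ⟶ cS.pt) (g : cT.pt ⟶ cS.pt) (h : cY.pt ⟶ cX.pt) (e : cY.pt ⟶ cT.pt)
  (hf : ∀ i, cX.π.app i ≫ fN.app i = f ≫ cS.π.app i) (hg : ∀ i, cT.π.app i ≫ gN.app i = g ≫ cS.π.app i)
  (hh : ∀ i, cY.π.app i ≫ hN.app i = h ≫ cX.π.app i) (he : ∀ i, cY.π.app i ≫ eN.app i = e ≫ cT.π.app i)
  (c : IsPullback e h g f)
  (Rs : PreSys Ts) (G : EtCoh.Ab cT.pt) (ψ : ∀ i, Rs.F i ⟶ (EtCoh.push (cT.π.app i)).obj G)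
  (hψ : ∀ {k j : I} (a : k ⟶ j), Rs.τ a ≫ (EtCoh.push (Ts.map a)).map (ψ k) =
    ψ j ≫ (etPc (cT.π.app k) (Ts.map a) (cT.π.app j) (cT.w a)).app G)
  (H : StkLim G (fun {k j} a => Rs.τ a) ψ)

include hcX hcS hcT hcY hf hg hh he sq hψ H in
/-- The base change morphism at the limit is injective when those at the stages are. -/
theorem mono_bcQ_limit (q : ℕ)
    (hstage : ∀ i, Mono (EtBC.bcQ (gN.app i) (fN.app i) (hN.app i) (eN.app i) (sq i).w q (Rs.F i))) :
    Mono (EtBC.bcQ g f h e c.w q G) := by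
  haveI : ∀ i, QuasiCompact (hN.app i) := fun i => MorphismProperty.of_isPullback (sq i) (inferInstance : QuasiCompact (gN.app i))
  haveI : ∀ i, QuasiSeparated (hN.app i) := fun i => MorphismProperty.of_isPullback (sq i) (inferInstance : QuasiSeparated (gN.app i))
  refine (mono_iff_stalks (A := AddCommGrpCat.{u + 1}) _).2 fun Ω _ _ ξ => ?_
  have HS := genVan_Rpush gN g hg hcT hcS Rs G ψ hψ q H (ξ ≫ f)
  have HX := genVan_Rpush hN h hh hcY hcX (pullSys eN Rs) _ (ψp eN e he Rs G ψ)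
    (fun {k j} a => ψp_compat eN e he Rs G ψ hψ a) q (stkLim_pull eN e he Rs G ψ H) ξ
  have hst : ∀ i, Function.Injective (Sbc fN gN hN eN (fun i => (sq i).w) f hf Rs q ξ i) := fun i => by
    haveI : Mono (adjL (fN.app i) (R (gN.app i) (hN.app i) (fN.app i) (eN.app i) (sq i).w q
        ((EtCoh.pullPushAdj (eN.app i)).unit.app (Rs.F i)))) := by
      rw [adjL_R_unit]
      exact hstage i
    exact injective_sig _ _ _ _ _
  have hinj : Function.Injective (Abc f g h e c.w G q ξ) := by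
    refine (injective_iff_map_eq_zero (Abc f g h e c.w G q ξ).hom).2 fun z hz => ?_
    obtain ⟨i, y, rfl⟩ := HS.1 z
    obtain ⟨k, a, ha⟩ := HX.2 i (Sbc fN gN hN eN (fun i => (sq i).w) f hf Rs q ξ i y)
      ((comm_lim fN gN hN eN (fun i => (sq i).w) f g h e hf hg hh he c.w Rs G ψ q ξ i y).symm.trans hz)
    have h0 := hst k (((comm_tr fN gN hN eN (fun i => (sq i).w) f hf Rs q ξ a y).symm.trans ha).trans
      (map_zero _).symm)
    exact (sig_lim_tr gN g hg Rs G ψ q hψ (ξ ≫ f) a y).symm.trans ((congrArg _ h0).trans (map_zero _))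
  have := mono_stk_of_injective_sig f ξ (ξ ≫ f) rfl _ hinj
  rw [adjL_R_unit] at this
  exact this

end Final

end EtULABCLib
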