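/-
Morphisms along which base change by universally locally `n`-acyclic morphisms is bijective up to degree `n` on
killed sheaves: criterion by effacing sheaves, quasi-finite and proper morphisms, composition, retracts.
-/
import Groth.Agent.EtULABCLib.Leray
import Groth.Agent.EtAcycFibLib.Bc
import Groth.Agent.EtBcBridgeLib.Criterion
import Groth.Agent.EtPBCProperLib.Main
import Groth.Agent.EtBcQLib.Etale
import Groth.Agent.EtBcQLib.Main

set_option autoImplicit false
set_option linter.all false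
set_option backward.isDefEq.respectTransparency false
set_option backward.isDefEq.respectTransparency.types false
set_option synthInstance.maxHeartbeats 400000
set_option maxHeartbeats 1600000

universe u

open CategoryTheory CategoryTheory.Limits AlgebraicGeometry Opposite

noncomputable section

namespace EtULABCLib

attribute [local instance] EtSliceLib.pullExact

/-- Base change of a universally locally acyclic morphism. -/
theorem uloc_of_isPullback {X Y X₁ Y₁ : Scheme.{u}} {g : X ⟶ Y} {L : Set ℕ} {n : ℕ}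
    (hg : EtAcyc.IsULocAcyclicN g L n) {g₁ : X₁ ⟶ Y₁} {b' : X₁ ⟶ X} {b : Y₁ ⟶ Y} (c : IsPullback b' g₁ g b) :
    EtAcyc.IsULocAcyclicN g₁ L n :=
  fun _ _ g₂ b₂' b₂ c₂ => hg g₂ (b₂' ≫ b') (b₂ ≫ b) (c₂.paste_horiz c)

theorem loc_of_uloc {X Y : Scheme.{u}} {g : X ⟶ Y} {L : Set ℕ} {n : ℕ} (hg : EtAcyc.IsULocAcyclicN g L n) :
    EtAcyc.IsLocAcyclicN g L n :=
  hg g (𝟙 X) (𝟙 Y) (IsPullback.of_horiz_isIso ⟨by simp⟩)

theorem isLTorsion_of_killed {X : Scheme.{u}} {L : Set ℕ} {m : ℕ} (hm : EtAcyc.PrimesIn L m) {F : EtCoh.Ab X}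
    (hF : EtCoh.KilledBy m F) : EtAcyc.IsLTorsion L F :=
  fun U s x => ⟨U, 𝟙 U, m, ⟨x, rfl⟩, hm, hF U _⟩

theorem isTorsion_of_killed {X : Scheme.{u}} {m : ℕ} (hm : 0 < m) {F : EtCoh.Ab X}
    (hF : EtCoh.KilledBy m F) : EtCoh.IsTorsion F :=
  fun U s x => ⟨U, 𝟙 U, ⟨x, rfl⟩, isOfFinAddOrder_iff_nsmul_eq_zero.2 ⟨m, hm, hF U _⟩⟩

/-- Base change is bijective up to degree `n` on killed sheaves along every universally locally acyclic base. -/
def Good (L : Set ℕ) (n : ℕ) {X S : Scheme.{u}} (f : X ⟶ S) : Prop :=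
  ∀ ⦃S' X' : Scheme.{u}⦄ (g : S' ⟶ S) (f' : X' ⟶ S') (g' : X' ⟶ X) (c : IsPullback g' f' f g),
    EtAcyc.IsULocAcyclicN g L n → ∀ m, EtAcyc.PrimesIn L m → ∀ F : EtCoh.Ab X, EtCoh.KilledBy m F →
      ∀ q, q ≤ n → IsIso (EtBC.bcQ f g f' g' c.w q F)

section Square

variable {X S S' X' : Scheme.{u}} (f : X ⟶ S) (g : S' ⟶ S) (f' : X' ⟶ S') (g' : X' ⟶ X) (c : IsPullback g' f' f g)

include c in
/-- Degree zero of base change. -/
theorem isIso_bcQ_zero_iff (M : EtCoh.Ab X) :
    IsIso (EtBC.bcQ f g f' g' c.w 0 M) ↔ IsIso (EtCoh.baseChange0 f g f' g' c.w M) := by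
  haveI : IsIso ((EtCoh.push f).toRightDerivedZero.app M) := inferInstance
  haveI : IsIso ((EtCoh.push f').toRightDerivedZero.app ((EtCoh.pull g').obj M)) := inferInstance
  rw [← isIso_comp_left_iff ((EtCoh.pull g).map ((EtCoh.push f).toRightDerivedZero.app M)),
    EtBC.bcQ_zero_compat, isIso_comp_right_iff]

/-- Being bijective passes to retracts. -/
theorem isIso_bcQ_of_retract (w : g' ≫ f = f' ≫ g) (q : ℕ) {E K : EtCoh.Ab X} (i : E ⟶ K) (r : K ⟶ E)
    (hir : i ≫ r = 𝟙 E) (hK : IsIso (EtBC.bcQ f g f' g' w q K)) : IsIso (EtBC.bcQ f g f' g' w q E) := by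
  haveI := hK
  let a := EtBcQLib.bcNat f g f' g' w q
  haveI : IsIso (a.app K) := hK
  have h1 := a.naturality i
  have h2 := a.naturality r
  refine ⟨(EtCoh.pull g' ⋙ EtCoh.Rpush f' q).map i ≫ inv (a.app K) ≫ (EtCoh.Rpush f q ⋙ EtCoh.pull g).map r, ?_, ?_⟩
  · show a.app E ≫ _ = _
    rw [← Category.assoc, ← h1, Category.assoc, IsIso.hom_inv_id_assoc, ← Functor.map_comp, hir,
      CategoryTheory.Functor.map_id]
    rfl
  · show (_ ≫ _ ≫ _) ≫ a.app E = _
    rw [Category.assoc, Category.assoc, h2, IsIso.inv_hom_id_assoc, ← Functor.map_comp, hir,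
      CategoryTheory.Functor.map_id]
    rfl

theorem isIso_bcQ_of_iso (w : g' ≫ f = f' ≫ g) (q : ℕ) {E K : EtCoh.Ab X} (e : E ≅ K)
    (hK : IsIso (EtBC.bcQ f g f' g' w q K)) : IsIso (EtBC.bcQ f g f' g' w q E) :=
  isIso_bcQ_of_retract f g f' g' w q e.hom e.inv e.hom_inv_id hK

include c in
/-- It is enough to treat the effacing sheaves. -/
theorem isIso_of_eff {m n : ℕ}
    (H : ∀ (I : EtCoh.Ab X) [Injective I], ∀ q, q ≤ n → IsIso (EtBC.bcQ f g f' g' c.w q (kernel (m • 𝟙 I)))) :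
    ∀ q, q ≤ n → ∀ F : EtCoh.Ab X, EtCoh.KilledBy m F → IsIso (EtBC.bcQ f g f' g' c.w q F) := by
  have hemb : ∀ F : EtCoh.Ab X, EtCoh.KilledBy m F →
      ∃ (I : EtCoh.Ab X) (_ : Injective I) (ι : F ⟶ kernel (m • 𝟙 I)), Mono ι := fun F hF =>
    ⟨Injective.under F, inferInstance,
      kernel.lift _ (Injective.ι F) (by
        rw [Preadditive.comp_nsmul, Category.comp_id, ← Category.id_comp (Injective.ι F), ← Preadditive.nsmul_comp,
          (EtBcKilledLib.killed_iff F).1 hF, zero_comp]),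
      mono_of_mono_fac (kernel.lift_ι _ _ _)⟩
  intro q
  induction q with
  | zero =>
    intro h0 F hF
    let a := EtBcKilledLib.bcFamily f g f' g' c.w 0
    have hm : ∀ M : EtCoh.Ab X, EtCoh.KilledBy m M → Mono (a.app M) := by
      intro M hM
      obtain ⟨I, _, ι, hι⟩ := hemb M hM
      have hS : (ShortComplex.mk ι (cokernel.π ι) (cokernel.condition ι)).ShortExact :=
        { exact := ShortComplex.exact_of_g_is_cokernel _ (cokernelIsCokernel _) }
      haveI : Mono (((EtBcKilledLib.bcSrc f g).F 0).map ι) := (EtBcKilledLib.bcSrc f g).mono₀ hS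
      haveI : IsIso (a.app (kernel (m • 𝟙 I))) := H I 0 h0
      haveI : Mono (a.app M ≫ ((EtBcKilledLib.bcTgt f' g').F 0).map ι) := by
        rw [← a.naturality ι]
        infer_instance
      exact mono_of_mono (a.app M) (((EtBcKilledLib.bcTgt f' g').F 0).map ι)
    obtain ⟨I, _, ι, hι⟩ := hemb F hF
    haveI := hm F hF
    haveI := hm _ (EtBcKilledLib.killed_cokernel ι (EtBcKilledLib.killed_kernel I m))
    let U : ShortComplex (EtCoh.Ab X) := ShortComplex.mk ι (cokernel.π ι) (cokernel.condition ι)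
    have hS : U.ShortExact :=
      { exact := ShortComplex.exact_of_g_is_cokernel _ (cokernelIsCokernel _) }
    haveI : Mono (((EtBcKilledLib.bcSrc f g).F 0).map ι) := (EtBcKilledLib.bcSrc f g).mono₀ hS
    haveI : Mono (((EtBcKilledLib.bcTgt f' g').F 0).map ι) := (EtBcKilledLib.bcTgt f' g').mono₀ hS
    haveI : IsIso (a.app (kernel (m • 𝟙 I))) := H I 0 h0
    haveI : Epi (a.app F) := by
      refine (epi_iff_surjective_up_to_refinements _).2 fun {A} z => ?_
      let y₀ := (z ≫ ((EtBcKilledLib.bcTgt f' g').F 0).map ι) ≫ inv (a.app (kernel (m • 𝟙 I)))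
      have hy : y₀ ≫ ((EtBcKilledLib.bcSrc f g).F 0).map U.g = 0 := by
        haveI := (EtBcKilledLib.bcTgt f' g').preservesZero 0
        rw [← cancel_mono (a.app U.X₃), zero_comp, Category.assoc, a.naturality]
        simp only [y₀, Category.assoc, IsIso.inv_hom_id_assoc]
        rw [← Functor.map_comp]
        erw [U.zero]
        rw [Functor.map_zero, comp_zero]
      obtain ⟨A', π, hπ, y, hy'⟩ := ((EtBcKilledLib.bcSrc f g).exact₂ hS 0).exact_up_to_refinements y₀ hy
      change π ≫ y₀ = y ≫ ((EtBcKilledLib.bcSrc f g).F 0).map ι at hy'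
      refine ⟨A', π, hπ, y, ?_⟩
      rw [← cancel_mono (((EtBcKilledLib.bcTgt f' g').F 0).map ι), Category.assoc, Category.assoc, ← a.naturality ι,
        ← Category.assoc y, ← hy']
      simp [y₀]
    exact isIso_of_mono_of_epi (a.app F)
  | succ q ih =>
    intro hq F hF
    have hi : ∀ M : EtCoh.Ab X, EtCoh.KilledBy m M → IsIso (EtBC.bcQ f g f' g' c.w q M) := ih (by omega)
    haveI := EtBcKilledLib.mono_bcQ_succ f g f' g' c.w hi F hF
    obtain ⟨I, _, ι, hι⟩ := hemb F hF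
    obtain ⟨φ, hφ, -⟩ := EtBcKilledLib.exists_mono_coker f g f' g' c.w hi ι (EtBcKilledLib.killed_kernel I m)
    haveI := hφ
    haveI := H I (q + 1) hq
    haveI : Epi (EtBC.bcQ f g f' g' c.w (q + 1) F) :=
      Preadditive.epi_of_isZero_cokernel _
        (IsZero.of_mono φ (isZero_cokernel_of_epi (EtBC.bcQ f g f' g' c.w (q + 1) (kernel (m • 𝟙 I)))))
    exact isIso_of_mono_of_epi (EtBC.bcQ f g f' g' c.w (q + 1) F)

include c in
/-- The target vanishes when the source does. -/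
theorem isZero_tgt (q : ℕ) (F : EtCoh.Ab X) (h : IsIso (EtBC.bcQ f g f' g' c.w q F))
    (hz : IsZero ((EtCoh.Rpush f q).obj F)) : IsZero ((EtCoh.Rpush f' q).obj ((EtCoh.pull g').obj F)) := by
  haveI := h
  exact IsZero.of_iso ((EtCoh.pull g).map_isZero hz) (asIso (EtBC.bcQ f g f' g' c.w q F)).symm

end Square

variable {L : Set ℕ} {n : ℕ}

theorem good_of_lqf {X S : Scheme.{u}} (f : X ⟶ S) [QuasiCompact f] [QuasiSeparated f] [LocallyQuasiFinite f]
    [LocallyOfFiniteType f] : Good L n f := by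
  intro S' X' g f' g' c hg m hm F hF q hq
  by_cases hL : ∃ ℓ ∈ L, ℓ.Prime
  · exact (EtAcycFibLib.bcQ_of_isLocAcyclicN g f f' g' c hL (loc_of_uloc hg) (isLTorsion_of_killed hm hF)).1 q hq
  · exact EtBcBridgeLib.isIso_bcQ_of_isZero f g f' g' c.w
      (EtBcBridgeLib.isZero_of_isLTorsion hL (isLTorsion_of_killed hm hF)) q

theorem good_of_isProper {X S : Scheme.{u}} (f : X ⟶ S) [IsProper f] : Good L n f :=
  fun _ _ g f' g' c _ _ hm F hF q _ => EtPBCProperLib.isIso_bcQ g f f' g' c F (isTorsion_of_killed hm.1 hF) q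

/-- A kernel after direct image. -/
def pushKer {A B : Scheme.{u}} (k : A ⟶ B) (I : EtCoh.Ab A) (m : ℕ) :
    (EtCoh.push k).obj (kernel (m • 𝟙 I)) ≅ kernel (m • 𝟙 ((EtCoh.push k).obj I)) :=
  haveI : PreservesLimitsOfSize.{0, 0} (EtCoh.push k) := (EtCoh.pullPushAdj k).rightAdjoint_preservesLimits
  PreservesKernel.iso (EtCoh.push k) _ ≪≫ kernel.mapIso _ _ (Iso.refl _) (Iso.refl _) (by
    rw [Functor.map_nsmul, CategoryTheory.Functor.map_id]
    simp)

section Comp

variable {A B D : Scheme.{u}} (k : A ⟶ B) (h : B ⟶ D)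

theorem good_comp (hk : Good L n k) (hh : Good L n h) : Good L n (k ≫ h) := by
  intro D' A' g f' g'' c0 hg m hm F hF q hq
  let B' := pullback h g
  let h' : B' ⟶ D' := pullback.snd h g
  let g' : B' ⟶ B := pullback.fst h g
  have c : IsPullback g' h' h g := IsPullback.of_hasPullback h g
  let k' : A' ⟶ B' := c.lift (g'' ≫ k) f' (by rw [Category.assoc]; exact c0.w)
  have hk' : k' ≫ h' = f' := c.lift_snd _ _ _
  have c' : IsPullback g'' k' k g' :=
    IsPullback.of_bot (by rw [hk']; exact c0) (c.lift_fst _ _ _).symm c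
  have hg' : EtAcyc.IsULocAcyclicN g' L n := uloc_of_isPullback hg c.flip
  refine isIso_of_eff (k ≫ h) g f' g'' c0 (m := m) (n := n) (fun I _ q hq => ?_) q hq F hF
  let E := kernel (m • 𝟙 I)
  have hE := EtBcKilledLib.killed_kernel I m
  haveI : Injective ((EtCoh.push k).obj I) := (EtCoh.push k).injective_obj I
  let e := pushKer k I m
  have hkE : EtCoh.KilledBy m ((EtCoh.push k).obj E) :=
    EtBcKilledLib.killed_of_mono e.hom (EtBcKilledLib.killed_kernel _ m)
  haveI hbk : IsIso (EtCoh.baseChange0 k g' k' g'' c'.w E) :=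
    (isIso_bcQ_zero_iff k g' k' g'' c' E).1 (hk g' k' g'' c' hg' m hm E hE 0 (Nat.zero_le _))
  cases q with
  | zero =>
    rw [isIso_bcQ_zero_iff (k ≫ h) g f' g'' c0]
    haveI := EtBcKilledLib.isIso_etPc k h (k ≫ h) rfl
    haveI := EtBcKilledLib.isIso_etPc k' h' f' hk'
    haveI : IsIso (EtCoh.baseChange0 h g h' g' c.w ((EtCoh.push k).obj E)) :=
      (isIso_bcQ_zero_iff h g h' g' c _).1 (hh g h' g' c hg m hm _ hkE 0 (Nat.zero_le _))
    rw [← isIso_comp_right_iff _ ((DescSecLib.etPc k' h' f' hk').app ((EtCoh.pull g'').obj E)),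
      ← EtBcKilledLib.bc0_horiz h g h' g' c k k' g'' c' (k ≫ h) rfl f' hk' c0 E]
    infer_instance
  | succ q =>
    have h1 : IsZero ((EtCoh.Rpush (k ≫ h) (q + 1)).obj E) := EtBcKilledLib.isZero_Rpush_kernel I hm.1 _ q
    refine IsZero.isIso ((EtCoh.pull g).map_isZero h1) ?_ _
    refine (isZero_comp_iff k' h' f' hk' q _ fun s hs => ?_).2 ?_
    · exact isZero_tgt k g' k' g'' c' (s + 1) E (hk g' k' g'' c' hg' m hm E hE (s + 1) (by omega))
        (EtBcKilledLib.isZero_Rpush_kernel I hm.1 k s)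
    · refine IsZero.of_iso ?_ ((EtCoh.Rpush h' (q + 1)).mapIso
        (asIso (EtCoh.baseChange0 k g' k' g'' c'.w E))).symm
      refine isZero_tgt h g h' g' c (q + 1) _ (hh g h' g' c hg m hm _ hkE (q + 1) hq) ?_
      exact IsZero.of_iso (EtBcKilledLib.isZero_Rpush_kernel ((EtCoh.push k).obj I) hm.1 h q)
        ((EtCoh.Rpush h (q + 1)).mapIso e)

/-- Descent along a surjection. -/
theorem good_of_surjective (hs : Function.Surjective k.base) (hk : Good L n k) (hkh : Good L n (k ≫ h)) :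
    Good L n h := by
  intro D' B' g h' g' c hg m hm F hF q hq
  let A' := pullback k g'
  let k' : A' ⟶ B' := pullback.snd k g'
  let g'' : A' ⟶ A := pullback.fst k g'
  have c' : IsPullback g'' k' k g' := IsPullback.of_hasPullback k g'
  have c0 : IsPullback g'' (k' ≫ h') (k ≫ h) g := c'.paste_vert c
  have hg' : EtAcyc.IsULocAcyclicN g' L n := uloc_of_isPullback hg c.flip
  refine isIso_of_eff h g h' g' c (m := m) (n := n) (fun I _ q hq => ?_) q hq F hF
  let J := Injective.under ((EtCoh.pull k).obj I)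
  let ι : I ⟶ (EtCoh.push k).obj J :=
    (EtCoh.pullPushAdj k).unit.app I ≫ (EtCoh.push k).map (Injective.ι _)
  haveI := EtBcQLib.mono_unit k hs I
  haveI : Mono ι := mono_comp _ _
  let r : (EtCoh.push k).obj J ⟶ I := Injective.factorThru (𝟙 I) ι
  have hir : ι ≫ r = 𝟙 I := Injective.comp_factorThru _ _
  refine isIso_bcQ_of_retract h g h' g' c.w q (kernel.map (m • 𝟙 I) (m • 𝟙 _) ι ι (by simp))
    (kernel.map (m • 𝟙 _) (m • 𝟙 I) r r (by simp)) ?_ ?_
  · rw [← cancel_mono (kernel.ι (m • 𝟙 I))]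
    simp [hir]
  refine isIso_bcQ_of_iso h g h' g' c.w q (pushKer k J m).symm ?_
  let E := kernel (m • 𝟙 J)
  have hE := EtBcKilledLib.killed_kernel J m
  haveI : Injective ((EtCoh.push k).obj J) := (EtCoh.push k).injective_obj J
  let e := pushKer k J m
  haveI hbk : IsIso (EtCoh.baseChange0 k g' k' g'' c'.w E) :=
    (isIso_bcQ_zero_iff k g' k' g'' c' E).1 (hk g' k' g'' c' hg' m hm E hE 0 (Nat.zero_le _))
  cases q with
  | zero =>
    rw [isIso_bcQ_zero_iff h g h' g' c]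
    haveI := EtBcKilledLib.isIso_etPc k h (k ≫ h) rfl
    haveI := EtBcKilledLib.isIso_etPc k' h' (k' ≫ h') rfl
    haveI : IsIso (EtCoh.baseChange0 (k ≫ h) g (k' ≫ h') g'' c0.w E) :=
      (isIso_bcQ_zero_iff (k ≫ h) g (k' ≫ h') g'' c0 E).1 (hkh g (k' ≫ h') g'' c0 hg m hm E hE 0 (Nat.zero_le _))
    rw [← isIso_comp_right_iff _ ((EtCoh.push h').map (EtCoh.baseChange0 k g' k' g'' c'.w E)),
      ← isIso_comp_left_iff ((EtCoh.pull g).map ((DescSecLib.etPc k h (k ≫ h) rfl).app E)),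
      EtBcKilledLib.bc0_horiz h g h' g' c k k' g'' c' (k ≫ h) rfl (k' ≫ h') rfl c0 E]
    infer_instance
  | succ q =>
    have h1 : IsZero ((EtCoh.Rpush h (q + 1)).obj ((EtCoh.push k).obj E)) :=
      IsZero.of_iso (EtBcKilledLib.isZero_Rpush_kernel ((EtCoh.push k).obj J) hm.1 h q)
        ((EtCoh.Rpush h (q + 1)).mapIso e)
    refine IsZero.isIso ((EtCoh.pull g).map_isZero h1) ?_ _
    refine IsZero.of_iso ((isZero_comp_iff k' h' (k' ≫ h') rfl q _ fun s hs => ?_).1 ?_)
      ((EtCoh.Rpush h' (q + 1)).mapIso (asIso (EtCoh.baseChange0 k g' k' g'' c'.w E)))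
    · exact isZero_tgt k g' k' g'' c' (s + 1) E (hk g' k' g'' c' hg' m hm E hE (s + 1) (by omega))
        (EtBcKilledLib.isZero_Rpush_kernel J hm.1 k s)
    · exact isZero_tgt (k ≫ h) g (k' ≫ h') g'' c0 (q + 1) E (hkh g (k' ≫ h') g'' c0 hg m hm E hE (q + 1) hq)
        (EtBcKilledLib.isZero_Rpush_kernel J hm.1 (k ≫ h) q)

end Comp

end EtULABCLib
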