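/-
Base change along universally locally acyclic morphisms for morphisms of affine schemes: finite type by
compactification, the general case by passage to the limit.
-/
import Groth.Agent.EtULABCLib.Good
import Groth.Agent.EtBcLimLib.Main
import Groth.Agent.EtAcycFibLib.Cover
import Groth.Agent.EtContLib.Push
import Groth.Agent.S0384
import Mathlib.CategoryTheory.Limits.Connected

set_option autoImplicit false
set_option linter.all false
set_option backward.isDefEq.respectTransparency false
set_option backward.isDefEq.respectTransparency.types false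
set_option synthInstance.maxHeartbeats 400000
set_option maxHeartbeats 1600000

universe u

open CategoryTheory CategoryTheory.Limits AlgebraicGeometry Opposite
open Groth.Agent Groth.Agent.EtShLib DescSecLib EtContLib EtBcLimLib EtAcycFibLib

noncomputable section

namespace EtULABCLib

attribute [local instance] EtSliceLib.pullExact

section Sys

variable {I : Type u} [SmallCategory I] {D : I ⥤ Scheme.{u}} (c : Cone D) (F : EtCoh.Ab c.pt)

/-- The direct images, as a system. -/
def pushPre : PreSys D where
  F := (pushSys c F).F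
  τ a := (pushSys c F).τ a
  comp e a b hb := by
    subst hb
    exact (pushSys c F).comp e a

/-- The sheaf at the limit is the limit of its direct images. -/
theorem stkLim_pushPre [IsCofiltered I] (hc : IsLimit c) [∀ (i j : I) (f : i ⟶ j), IsAffineHom (D.map f)]
    [∀ i, CompactSpace (D.obj i)] [∀ i, QuasiSeparatedSpace (D.obj i)] :
    StkLim F (fun {k j} a => (pushPre c F).τ a) (fun i => 𝟙 ((EtCoh.push (c.π.app i)).obj F)) := by
  have h := isLim_pushCoc c F hc
  intro Ω _ _ ξ
  refine ⟨fun q => ?_, fun i y hy => ?_⟩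
  · obtain ⟨A, z, s, rfl⟩ := h.gen Ω ξ q
    refine ⟨A.i, germ (ξ ≫ c.π.app A.i) ((EtCoh.push (c.π.app A.i)).obj F) A.V (projFib z) s, ?_⟩
    refine Eq.trans (germ_sig _ _ _ _ _ _ _ _) ?_
    rw [liftW_projFib z]
    rfl
  · obtain ⟨V, v, s, rfl⟩ := exists_germ (A := AddCommGrpCat.{u + 1}) (ξ ≫ c.π.app i) y
    let A : Obj D := ⟨i, V⟩
    obtain ⟨B, f, z', hz', hf⟩ := h.van Ω ξ A (liftW (c.π.app i) ξ _ rfl v) s
      ((germ_sig _ _ _ _ _ _ _ _).symm.trans hy)
    refine ⟨B.i, f.a, ?_⟩
    refine Eq.trans (germ_sig _ _ _ _ _ _ _ _) ?_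
    rw [← projFib_map_toBc f z' v hz', ← germ_res_apply]
    exact (congrArg _ hf).trans (map_zero _)

end Sys

variable {L : Set ℕ} {n : ℕ}

/-- Affine morphisms of finite type of affine schemes. -/
theorem good_of_finiteType {X S : Scheme.{u}} (f : X ⟶ S) [IsAffine X] [IsAffine S] [LocallyOfFiniteType f] :
    Good L n f := by
  haveI : IsAffineHom f := isAffineHom_of_isAffine f
  obtain ⟨Xc, j, g, hj, hjq, hg, rfl⟩ := Groth.Agent.S0384.result f
  haveI := hj
  haveI := hjq
  haveI := hg
  exact good_comp j g (good_of_lqf j) (good_of_isProper g)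

/-- Cartesian squares on the same two morphisms have base change bijective together. -/
theorem isIso_bcQ_congr {X S S' X' P : Scheme.{u}} (f : X ⟶ S) (g : S' ⟶ S) (f' : X' ⟶ S') (g' : X' ⟶ X)
    (c0 : IsPullback g' f' f g) (a : P ⟶ S') (b : P ⟶ X) (c : IsPullback b a f g) (q : ℕ) (F : EtCoh.Ab X)
    (h : IsIso (EtBC.bcQ f g a b c.w q F)) : IsIso (EtBC.bcQ f g f' g' c0.w q F) := by
  haveI := h
  let j : X' ⟶ P := c.lift g' f' c0.w
  have c' : IsPullback j f' a (𝟙 S') :=
    IsPullback.of_right (by rw [c.lift_fst, Category.id_comp]; exact c0)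
      (by rw [c.lift_snd, Category.comp_id]) c
  have h2 := EtBcQLib.isIso_bcQ_etale a (𝟙 S') f' j c' q ((EtCoh.pull b).obj F)
  exact (EtBcQLib.isIso_outer_iff g f a b c (𝟙 S') f' j c' g (Category.id_comp g) g' (c.lift_fst _ _ _) c0 q F h2).2
    inferInstance

/-- Morphisms of spectra. -/
theorem good_spec (A B : Type u) [CommRing A] [CommRing B] [Algebra A B] :
    Good L n (Spec.map (CommRingCat.ofHom (algebraMap A B))) := by
  intro S' X' g f' g' c0 hg m hm F hF q hq
  refine isIso_bcQ_congr _ g f' g' c0 _ _
    (IsPullback.of_hasPullback g (Spec.map (CommRingCat.ofHom (algebraMap A B)))).flip q F ?_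
  let I := (FPColimLib.Stage A B)ᵒᵖ
  let gN : stageSpec (A := A) (Ω := B) ⟶ (Functor.const I).obj (Spec (CommRingCat.of A)) :=
    { app := fun i => stageHom i
      naturality := fun i j a => (stageHom_map a).trans (Category.comp_id _).symm }
  let fN : (Functor.const I).obj S' ⟶ (Functor.const I).obj (Spec (CommRingCat.of A)) := (Functor.const I).map g
  let eN : preD (Ω := B) g ⟶ stageSpec (A := A) (Ω := B) :=
    { app := fun i => pullback.snd g (stageHom i)
      naturality := fun i j a => pullback.lift_snd _ _ _ }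
  have hA : ∀ i, IsAffineHom (stageHom (A := A) (Ω := B) i) := fun i => by
    haveI : IsAffine (stageSpec (A := A) (Ω := B) |>.obj i) := inferInstanceAs (IsAffine (Spec _))
    exact isAffineHom_of_isAffine _
  haveI : ∀ i : I, IsAffine ((stageSpec (A := A) (Ω := B)).obj i) := fun i => inferInstanceAs (IsAffine (Spec _))
  haveI : ∀ (i j : I) (a : i ⟶ j), IsAffineHom ((stageSpec (A := A) (Ω := B)).map a) := fun i j a =>
    isAffineHom_of_isAffine _
  haveI : ∀ i : I, QuasiCompact (gN.app i) := fun i => by
    haveI := hA i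
    exact inferInstanceAs (QuasiCompact (stageHom i))
  haveI : ∀ i : I, QuasiSeparated (gN.app i) := fun i => by
    haveI := hA i
    exact inferInstanceAs (QuasiSeparated (stageHom i))
  haveI : ∀ (i j : I) (a : i ⟶ j), IsAffineHom (((Functor.const I).obj S').map a) := fun i j a =>
    inferInstanceAs (IsAffineHom (𝟙 S'))
  haveI : ∀ (i j : I) (a : i ⟶ j), IsAffineHom (((Functor.const I).obj (Spec (CommRingCat.of A))).map a) :=
    fun i j a => inferInstanceAs (IsAffineHom (𝟙 (Spec (CommRingCat.of A))))
  haveI : ∀ (i j : I) (a : i ⟶ j), IsAffineHom ((preD (Ω := B) g).map a) := fun i j a => by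
    haveI hi : IsAffineHom (pullback.fst g (stageHom i)) := MorphismProperty.pullback_fst (P := @IsAffineHom) _ _ (hA i)
    haveI hj : IsAffineHom (pullback.fst g (stageHom j)) := MorphismProperty.pullback_fst (P := @IsAffineHom) _ _ (hA j)
    haveI : IsAffineHom ((preD (Ω := B) g).map a ≫ pullback.fst g (stageHom j)) := by
      rw [show (preD (Ω := B) g).map a ≫ pullback.fst g (stageHom j) = pullback.fst g (stageHom i) from
        (preT (Ω := B) g).naturality a |>.trans (Category.comp_id _)]
      exact hi
    exact IsAffineHom.of_comp ((preD (Ω := B) g).map a) (pullback.fst g (stageHom j))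
  haveI : IsFiltered (FPColimLib.Stage A B) := inferInstance
  haveI : CategoryTheory.IsConnected I := IsCofiltered.isConnected _
  have sq : ∀ i : I, IsPullback (eN.app i) ((preT (Ω := B) g).app i) (gN.app i) (fN.app i) := fun i =>
    (IsPullback.of_hasPullback g (stageHom i)).flip
  let cT := stageCone (A := A) (Ω := B)
  refine isIso_bcQ_limit fN gN (preT (Ω := B) g) eN sq
    (isLimitConstCone I S') (isLimitConstCone I (Spec (CommRingCat.of A))) stageLimit (preLimit g)
    g (Spec.map (CommRingCat.ofHom (algebraMap A B))) (pullback.fst g _) (pullback.snd g _)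
    (fun i => (Category.id_comp g).trans (Category.comp_id g).symm)
    (fun i => (stageCone_hom i).trans (Category.comp_id _).symm)
    (fun i => (pullback.lift_fst _ _ _).trans rfl)
    (fun i => pullback.lift_snd _ _ _)
    (IsPullback.of_hasPullback g _).flip
    (pushPre cT F) F (fun i => 𝟙 _) (fun {k j} a => pushSys_compat cT F a)
    (stkLim_pushPre cT F stageLimit) q fun i => ?_
  haveI : LocallyOfFiniteType (gN.app i) := by
    show LocallyOfFiniteType (Spec.map (CommRingCat.ofHom (algebraMap A (FPColimLib.Q i.unop))))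
    rw [HasRingHomProperty.Spec_iff (P := @LocallyOfFiniteType)]
    exact RingHom.finiteType_algebraMap.2 inferInstance
  haveI : IsAffine (((Functor.const I).obj (Spec (CommRingCat.of A))).obj i) :=
    inferInstanceAs (IsAffine (Spec (CommRingCat.of A)))
  exact good_of_finiteType (gN.app i) (fN.app i) ((preT (Ω := B) g).app i) (eN.app i) (sq i) hg m hm _
    (EtBcKilledLib.killed_obj (EtCoh.push (cT.π.app i)) hF) q hq

/-- Morphisms of affine schemes. -/
theorem good_of_isAffine {X S : Scheme.{u}} (f : X ⟶ S) [IsAffine X] [IsAffine S] : Good L n f := by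
  have e : X.isoSpec.hom ≫ Spec.map f.appTop ≫ S.isoSpec.inv = f := by
    rw [← Category.assoc, Iso.comp_inv_eq]
    exact Scheme.isoSpec_hom_naturality f
  rw [← e]
  refine good_comp _ _ (good_of_isProper _) (good_comp _ _ ?_ (good_of_isProper _))
  letI := f.appTop.hom.toAlgebra
  exact good_spec Γ(S, ⊤) Γ(X, ⊤)

end EtULABCLib
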