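/-
Base change along universally locally acyclic morphisms for quasi-compact quasi-separated morphisms: locality,
and passage from killed sheaves to torsion sheaves.
-/
import Groth.Agent.EtULABCLib.Affine
import Groth.Agent.EtULABCLib.MonoLim
import Groth.Agent.EtContLib.PreLim
import Groth.Agent.EtShLib.PushStalk
import Groth.Agent.EtShLib.TorsionCoh

set_option autoImplicit false
set_option linter.all false
set_option backward.isDefEq.respectTransparency false
set_option backward.isDefEq.respectTransparency.types false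
set_option synthInstance.maxHeartbeats 400000
set_option maxHeartbeats 1600000

universe u

open CategoryTheory CategoryTheory.Limits AlgebraicGeometry Opposite
open Groth.Agent Groth.Agent.EtShLib DescSecLib EtContLib EtBcLimLib

noncomputable section

namespace EtULABCLib

attribute [local instance] EtSliceLib.pullExact

variable {L : Set ℕ} {n : ℕ}

/-- Quasi-compact quasi-separated schemes over affine ones. -/
theorem good_of_affine_base {X S : Scheme.{u}} (f : X ⟶ S) [QuasiCompact f] [QuasiSeparated f] [IsAffine S] :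
    Good L n f := by
  haveI : CompactSpace X := QuasiCompact.compactSpace_of_compactSpace f
  haveI : QuasiSeparatedSpace X := quasiSeparatedSpace_of_quasiSeparated f
  let 𝒰 := X.affineCover.finiteSubcover
  haveI : ∀ i, IsAffine (𝒰.X i) := fun i => by dsimp [𝒰]; infer_instance
  let W : Scheme.{u} := ∐ fun i : 𝒰.I₀ => 𝒰.X i
  let π : W ⟶ X := Sigma.desc fun i => 𝒰.f i
  haveI : LocallyQuasiFinite π :=
    IsZariskiLocalAtSource.sigmaDesc (P := @LocallyQuasiFinite) fun i => inferInstance
  haveI : LocallyOfFiniteType π :=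
    IsZariskiLocalAtSource.sigmaDesc (P := @LocallyOfFiniteType) fun i => inferInstance
  haveI : QuasiCompact π := inferInstance
  haveI : QuasiSeparated π := inferInstance
  haveI : Surjective π := inferInstanceAs (Surjective (Sigma.desc fun i => 𝒰.f i))
  exact good_of_surjective π f π.surjective (good_of_lqf π) (good_of_isAffine (π ≫ f))

/-- Quasi-compact quasi-separated morphisms. -/
theorem good_of_qcqs {X S : Scheme.{u}} (f : X ⟶ S) [QuasiCompact f] [QuasiSeparated f] : Good L n f := by
  intro S' X' g f' g' c hg m hm F hF q hq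
  let V : S.affineOpens → S.Etale := fun O =>
    MorphismProperty.Over.mk ⊤ O.1.ι (inferInstanceAs (AlgebraicGeometry.Etale O.1.ι))
  let U : S.affineOpens → S'.Etale := fun O =>
    MorphismProperty.Over.mk ⊤ (g ⁻¹ᵁ O.1).ι (inferInstanceAs (AlgebraicGeometry.Etale (g ⁻¹ᵁ O.1).ι))
  have hU : EtCoh.Covers U := fun y => by
    obtain ⟨O, hO, hy, -⟩ := exists_isAffineOpen_mem_and_subset (X := S) (x := g.base y) (U := ⊤) trivial
    exact ⟨⟨O, hO⟩, ⟨y, hy⟩, rfl⟩
  refine EtBcQLib.isIso_bcQ_of_local g f f' g' c F q U hU V (fun O => g ∣_ O.1)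
    (fun O => morphismRestrict_ι g O.1) (fun O => pullback f O.1.ι)
    (fun O => pullback (pullback.snd f O.1.ι) (g ∣_ O.1)) (fun O => pullback.snd f O.1.ι)
    (fun O => pullback.fst f O.1.ι) (fun O => IsPullback.of_hasPullback f O.1.ι)
    (fun O => pullback.snd (pullback.snd f O.1.ι) (g ∣_ O.1))
    (fun O => pullback.fst (pullback.snd f O.1.ι) (g ∣_ O.1))
    (fun O => IsPullback.of_hasPullback _ _) fun O => ?_
  haveI : IsAffine (O.1 : Scheme.{u}) := O.2
  haveI : QuasiCompact (pullback.snd f O.1.ι) := MorphismProperty.pullback_snd (P := @QuasiCompact) _ _ ‹QuasiCompact f›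
  haveI : QuasiSeparated (pullback.snd f O.1.ι) :=
    MorphismProperty.pullback_snd (P := @QuasiSeparated) _ _ ‹QuasiSeparated f›
  haveI : (EtCoh.pull (pullback.fst f O.1.ι)).Additive := (EtCoh.pullPushAdj _).left_adjoint_additive
  exact good_of_affine_base (pullback.snd f O.1.ι) (g ∣_ O.1) _ _ (IsPullback.of_hasPullback _ _)
    (uloc_of_isPullback hg (isPullback_morphismRestrict g O.1).flip) m hm _
    (EtBcKilledLib.killed_obj (EtCoh.pull (pullback.fst f O.1.ι)) hF) q hq

section Stages

/-- Positive integers with prime factors in `L`, ordered by divisibility. -/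
structure LNum (L : Set ℕ) : Type u where
  /-- the integer -/
  m : ℕ
  hm : EtAcyc.PrimesIn L m

instance : Preorder (LNum.{u} L) where
  le a b := a.m ∣ b.m
  le_refl a := dvd_refl a.m
  le_trans a b c := dvd_trans

instance : IsDirectedOrder (LNum.{u} L) :=
  ⟨fun a b => ⟨⟨a.m * b.m, mul_pos a.hm.1 b.hm.1, fun p hp hd => (hp.dvd_mul.1 hd).elim (a.hm.2 p hp) (b.hm.2 p hp)⟩,
    dvd_mul_right _ _, dvd_mul_left _ _⟩⟩

instance : Nonempty (LNum.{u} L) := ⟨⟨1, Nat.one_pos, fun p hp hd => absurd (Nat.dvd_one.1 hd) hp.ne_one⟩⟩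

variable (L)
variable {X : Scheme.{u}} (F : EtCoh.Ab X)

/-- The index category. -/
abbrev Idx : Type u := (LNum.{u} L)ᵒᵖ

theorem ker_comp {a b : LNum.{u} L} (h : a ≤ b) : kernel.ι (a.m • 𝟙 F) ≫ (b.m • 𝟙 F) = 0 := by
  obtain ⟨r, hr⟩ := (h : a.m ∣ b.m)
  rw [hr, mul_comm, mul_smul, Preadditive.comp_nsmul, kernel.condition, smul_zero]

/-- The killed subsheaves. -/
def killD : (Idx.{u} L)ᵒᵖ ⥤ EtCoh.Ab X where
  obj j := kernel (j.unop.unop.m • 𝟙 F)
  map {j k} h := kernel.lift _ (kernel.ι _) (ker_comp L F (leOfHom h.unop.unop))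
  map_id j := by rw [← cancel_mono (kernel.ι _)]; simp
  map_comp f g := by rw [← cancel_mono (kernel.ι _)]; simp

/-- Their inclusions. -/
def killC : Cocone (killD L F) where
  pt := F
  ι :=
    { app := fun j => kernel.ι _
      naturality := fun i j h => by
        show kernel.lift _ _ _ ≫ kernel.ι _ = kernel.ι _ ≫ 𝟙 F
        simp }

theorem isIso_desc (hF : EtAcyc.IsLTorsion L F) : IsIso (colimit.desc (killD L F) (killC L F)) := by
  refine EtShLib.isIso_of_stalks (A := AddCommGrpCat.{u + 1}) _ fun Ω _ _ ξ => ?_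
  let S := stk (A := AddCommGrpCat.{u + 1}) ξ
  have hι : ∀ j (p : (killD L F ⋙ S).obj j),
      S.map (colimit.desc (killD L F) (killC L F)) (S.map (colimit.ι (killD L F) j) p) = S.map (kernel.ι _) p :=
    fun j p => by
      rw [← ConcreteCategory.comp_apply, ← S.map_comp, colimit.ι_desc]
      rfl
  rw [ConcreteCategory.isIso_iff_bijective]
  refine ⟨(injective_iff_map_eq_zero (S.map (colimit.desc (killD L F) (killC L F))).hom).2 fun p hp => ?_, fun p => ?_⟩
  · obtain ⟨j, x, rfl⟩ := Concrete.isColimit_exists_rep (killD L F ⋙ S)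
      (isColimitOfPreserves S (colimit.isColimit (killD L F))) p
    have hinj := (AddCommGrpCat.mono_iff_injective _).1
      ((mono_iff_stalks (A := AddCommGrpCat.{u + 1}) (kernel.ι (j.unop.unop.m • 𝟙 F))).1 inferInstance Ω ξ)
    have hx : x = 0 := hinj ((hι j x).symm.trans (hp.trans (map_zero _).symm))
    rw [hx]
    exact map_zero _
  · obtain ⟨U, u, s, rfl⟩ := exists_germ (A := AddCommGrpCat.{u + 1}) ξ p
    obtain ⟨V, g, m, ⟨y, hy⟩, hm, hms⟩ := hF U s u.pt
    haveI : AlgebraicGeometry.Etale g.left := etale_left g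
    obtain ⟨l, hl, -⟩ := Scheme.exists_fac_of_etale_of_isSepClosed g.left u.hom y hy
    let v : Fib ξ V := Fib.mk l (by
      rw [← (show g.left ≫ U.hom = V.hom from MorphismProperty.Over.w g), ← Category.assoc, hl]
      exact u.w)
    have he : (ShortComplex.mk (kernel.ι (m • 𝟙 F)) (m • 𝟙 F) (kernel.condition _)).Exact :=
      ShortComplex.exact_of_f_is_kernel _ (kernelIsKernel _)
    have he' := (ShortComplex.ab_exact_iff _).1 ((exact_iff_stalks (A := AddCommGrpCat.{u + 1}) _).1 he Ω ξ)
    obtain ⟨x, hx⟩ := he' (germ (A := AddCommGrpCat.{u + 1}) ξ F V v (F.obj.map g.op s)) (by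
      refine (germ_natural_apply (A := AddCommGrpCat.{u + 1}) ξ (m • 𝟙 F) V v _).trans ?_
      rw [EtTransferLib.nsmul_id_app F m V, hms, map_zero])
    let j₀ : (Idx.{u} L)ᵒᵖ := op (op ⟨m, hm⟩)
    refine ⟨S.map (colimit.ι (killD L F) j₀) x, ?_⟩
    refine Eq.trans (hι j₀ x) ?_
    refine Eq.trans hx ?_
    rw [germ_res_apply, show v.map g = u from Fib.ext hl]
    rfl

/-- The constant diagram. -/
abbrev cst (X : Scheme.{u}) : Idx.{u} L ⥤ Scheme.{u} := (Functor.const _).obj X

/-- The constant cone. -/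
abbrev cstCone (X : Scheme.{u}) : Cone (cst L X) := constCone (Idx.{u} L) X

section Cone

variable {I : Type u} [SmallCategory I] {D : I ⥤ Scheme.{u}} (cn : Cone D) (K : Iᵒᵖ ⥤ EtCoh.Ab cn.pt)

/-- Sheaves at the cone point as a system on the stages. -/
def coneSys : PreSys D where
  F i := (EtCoh.push (cn.π.app i)).obj (K.obj (op i))
  τ {k j} a := (EtCoh.push (cn.π.app j)).map (K.map a.op) ≫
    (etPc (cn.π.app k) (D.map a) (cn.π.app j) (cn.w a)).app (K.obj (op k))
  comp {l k j} e a b hb := by
    subst hb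
    have hn := (etPc (cn.π.app k) (D.map a) (cn.π.app j) (cn.w a)).naturality (K.map e.op)
    have hp : (etPc (cn.π.app k) (D.map a) (cn.π.app j) (cn.w a)).app (K.obj (op l)) ≫
        (EtCoh.push (D.map a)).map ((etPc (cn.π.app l) (D.map e) (cn.π.app k) (cn.w e)).app (K.obj (op l))) =
      (etPc (cn.π.app l) (D.map (e ≫ a)) (cn.π.app j) (cn.w (e ≫ a))).app (K.obj (op l)) ≫
        (etPc (D.map e) (D.map a) (D.map (e ≫ a)) (D.map_comp e a).symm).app
          ((EtCoh.push (cn.π.app l)).obj (K.obj (op l))) :=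
      (pushSys cn (K.obj (op l))).comp e a
    dsimp only [Functor.comp_map] at hn
    rw [Functor.map_comp, Category.assoc, reassoc_of% hn.symm, hp]
    refine Eq.trans ?_ (Category.assoc _ _ _).symm
    refine (Category.assoc _ _ _).symm.trans ?_
    refine congrArg (fun t => t ≫ _) ?_
    rw [op_comp, K.map_comp]
    exact ((EtCoh.push (cn.π.app j)).map_comp _ _).symm

variable {cn} {K} (cc : Cocone K)

/-- The maps to the vertex. -/
def coneψ (i : I) : (coneSys cn K).F i ⟶ (EtCoh.push (cn.π.app i)).obj cc.pt :=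
  (EtCoh.push (cn.π.app i)).map (cc.ι.app (op i))

theorem coneψ_compat {k j : I} (a : k ⟶ j) :
    (coneSys cn K).τ a ≫ (EtCoh.push (D.map a)).map (coneψ cc k) =
      coneψ cc j ≫ (etPc (cn.π.app k) (D.map a) (cn.π.app j) (cn.w a)).app cc.pt := by
  have hn := (etPc (cn.π.app k) (D.map a) (cn.π.app j) (cn.w a)).naturality (cc.ι.app (op k))
  dsimp only [Functor.comp_map] at hn
  show ((EtCoh.push (cn.π.app j)).map (K.map a.op) ≫ _) ≫ _ = _
  refine (Category.assoc _ _ _).trans ?_
  refine (congrArg ((EtCoh.push (cn.π.app j)).map (K.map a.op) ≫ ·) hn.symm).trans ?_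
  refine (Category.assoc _ _ _).symm.trans ?_
  refine congrArg (fun t => t ≫ (etPc (cn.π.app k) (D.map a) (cn.π.app j) (cn.w a)).app cc.pt) ?_
  exact ((EtCoh.push (cn.π.app j)).map_comp _ _).symm.trans (congrArg _ (cc.w a.op))

theorem stkLim_coneSys [IsCofiltered I] (hcc : IsColimit cc) [∀ i, IsOpenImmersion (cn.π.app i)] :
    StkLim (c := cn) cc.pt (fun {k j} a => (coneSys cn K).τ a) (coneψ cc) := by
  refine stkLim_of_isLim (coneSys cn K) cc.pt (coneψ cc) (fun {k j} a => coneψ_compat cc a) ?_
  haveI : ∀ i, IsIso (adjL (cn.π.app i) (𝟙 ((coneSys cn K).F i))) := fun i => by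
    have e : adjL (cn.π.app i) (𝟙 ((EtCoh.push (cn.π.app i)).obj (K.obj (op i)))) =
        (EtCoh.pullPushAdj (cn.π.app i)).counit.app (K.obj (op i)) := Adjunction.homEquiv_symm_id _ _
    have := counit_isIso_of_openImmersion (i := cn.π.app i) (K.obj (op i))
    rw [← e] at this
    exact this
  refine PreSys.isLim_coc (coneSys cn K) cc.pt (coneψ cc) (fun {k j} a => coneψ_compat cc a) K cc hcc (𝟙 cc.pt)
    (fun i => 𝟙 _) (fun i => ?_) (fun {k i} a => ?_)
  · exact (Category.id_comp _).trans (congrArg _ (Category.comp_id _))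
  · refine (congrArg (fun t => _ ≫ t) ((EtCoh.push (D.map a)).map_id _)).trans ?_
    refine (Category.comp_id _).trans ?_
    exact (congrArg (fun t => t ≫ _) (Category.id_comp _)).symm

end Cone

/-- The killed subsheaves as a system on the constant diagram. -/
abbrev killSys : PreSys (cst L X) := coneSys (cstCone L X) (killD L F)

/-- The inclusions. -/
abbrev killψ (i : Idx.{u} L) :
    (killSys L F).F i ⟶ (EtCoh.push ((cstCone L X).π.app i)).obj F :=
  coneψ (cn := cstCone L X) (K := killD L F) (killC L F) i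

theorem killψ_compat {k j : Idx.{u} L} (a : k ⟶ j) :
    (killSys L F).τ a ≫ (EtCoh.push ((cst L X).map a)).map (killψ L F k) =
      killψ L F j ≫ (etPc ((cstCone L X).π.app k) ((cst L X).map a) ((cstCone L X).π.app j)
        ((cstCone L X).w a)).app F :=
  coneψ_compat (cn := cstCone L X) (K := killD L F) (killC L F) a

theorem stkLim_kill (hF : EtAcyc.IsLTorsion L F) :
    StkLim (c := cstCone L X) F (fun {k j} a => (killSys L F).τ a) (killψ L F) := by
  haveI := isIso_desc L F hF
  haveI : ∀ i, IsOpenImmersion ((cstCone L X).π.app i) := fun i => inferInstanceAs (IsOpenImmersion (𝟙 X))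
  have hcc : IsColimit (killC L F) :=
    @IsColimit.ofPointIso _ _ _ _ _ _ (killC L F) (colimit.isColimit (killD L F))
      (show IsIso (colimit.desc (killD L F) (killC L F)) from inferInstance)
  exact stkLim_coneSys (cn := cstCone L X) (K := killD L F) (killC L F) hcc

end Stages

section Torsion

variable {X S S' X' : Scheme.{u}} (f : X ⟶ S) [QuasiCompact f] [QuasiSeparated f] (g : S' ⟶ S) (f' : X' ⟶ S')
  (g' : X' ⟶ X) (c : IsPullback g' f' f g) (hg : EtAcyc.IsULocAcyclicN g L n)

/-- A morphism as a map of constant diagrams. -/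
abbrev cstMap (L : Set ℕ) {A B : Scheme.{u}} (a : A ⟶ B) : cst L A ⟶ cst L B := (Functor.const _).map a

theorem cstMap_w (L : Set ℕ) {A B : Scheme.{u}} (a : A ⟶ B) (i : Idx.{u} L) :
    (cstCone L A).π.app i ≫ (cstMap L a).app i = a ≫ (cstCone L B).π.app i :=
  (Category.id_comp a).trans (Category.comp_id a).symm

instance (L : Set ℕ) (Z : Scheme.{u}) (i j : Idx.{u} L) (a : i ⟶ j) : IsAffineHom ((cst L Z).map a) :=
  inferInstanceAs (IsAffineHom (𝟙 Z))

instance (L : Set ℕ) {A B : Scheme.{u}} (a : A ⟶ B) [QuasiCompact a] (i : Idx.{u} L) :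
    QuasiCompact ((cstMap L a).app i) := inferInstanceAs (QuasiCompact a)

instance (L : Set ℕ) {A B : Scheme.{u}} (a : A ⟶ B) [QuasiSeparated a] (i : Idx.{u} L) :
    QuasiSeparated ((cstMap L a).app i) := inferInstanceAs (QuasiSeparated a)

/-- Constant cones are limits. -/
def cstLimit (L : Set ℕ) (Z : Scheme.{u}) : IsLimit (cstCone L Z) :=
  haveI : CategoryTheory.IsConnected (Idx.{u} L) := IsCofiltered.isConnected _
  isLimitConstCone _ Z

theorem killed_killSys (F : EtCoh.Ab X) (i : Idx.{u} L) : EtCoh.KilledBy i.unop.m ((killSys L F).F i) :=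
  EtBcKilledLib.killed_obj (EtCoh.push ((cstCone L X).π.app i)) (EtBcKilledLib.killed_kernel F i.unop.m)

include c hg in
theorem stage_isIso (F : EtCoh.Ab X) (q : ℕ) (hq : q ≤ n) (i : Idx.{u} L) :
    IsIso (EtBC.bcQ f g f' g' c.w q ((killSys L F).F i)) :=
  good_of_qcqs (L := L) (n := n) f g f' g' c hg _ i.unop.hm _ (killed_killSys F i) q hq

include c hg in
theorem stage_mono (F : EtCoh.Ab X) (i : Idx.{u} L) :
    Mono (EtBC.bcQ f g f' g' c.w (n + 1) ((killSys L F).F i)) :=
  EtBcKilledLib.mono_bcQ_succ f g f' g' c.w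
    (fun G hG => good_of_qcqs (L := L) (n := n) f g f' g' c hg _ i.unop.hm G hG n le_rfl) _ (killed_killSys F i)

include c hg in
/-- Base change along a universally locally acyclic morphism, up to degree `n`. -/
theorem isIso_bcQ_of_uloc (F : EtCoh.Ab X) (hF : EtAcyc.IsLTorsion L F) (q : ℕ) (hq : q ≤ n) :
    IsIso (EtBC.bcQ f g f' g' c.w q F) := by
  haveI : IsCofiltered (Idx.{u} L) := inferInstance
  have H := stkLim_kill L F hF
  exact isIso_bcQ_limit (cstMap L g) (cstMap L f) (cstMap L f') (cstMap L g') (fun i => c) (cstLimit L S')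
    (cstLimit L S) (cstLimit L X) (cstLimit L X') g f f' g' (cstMap_w L g) (cstMap_w L f) (cstMap_w L f')
    (cstMap_w L g') c (killSys L F) F (killψ L F) (fun {k j} a => killψ_compat L F a) H q
    (fun i => stage_isIso f g f' g' c hg F q hq i)

include c hg in
/-- Base change along a universally locally acyclic morphism, in degree `n + 1`. -/
theorem mono_bcQ_of_uloc (F : EtCoh.Ab X) (hF : EtAcyc.IsLTorsion L F) :
    Mono (EtBC.bcQ f g f' g' c.w (n + 1) F) := by
  haveI : IsCofiltered (Idx.{u} L) := inferInstance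
  have H := stkLim_kill L F hF
  exact mono_bcQ_limit (cstMap L g) (cstMap L f) (cstMap L f') (cstMap L g') (fun i => c) (cstLimit L S')
    (cstLimit L S) (cstLimit L X) (cstLimit L X') g f f' g' (cstMap_w L g) (cstMap_w L f) (cstMap_w L f')
    (cstMap_w L g') c (killSys L F) F (killψ L F) (fun {k j} a => killψ_compat L F a) H (n + 1)
    (fun i => stage_mono f g f' g' c hg F i)

end Torsion

end EtULABCLib
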